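import Cfsg.Agent.H112.Row2.OrthExt
import Cfsg.Agent.H112.Row2.SpSix

/-!
# Linear similitudes of order two of odd-dimensional quadratic spaces, and the row `Ω₇(3)` (helper112, for S3832, S4336)
-/

set_option autoImplicit false
set_option linter.unusedSectionVars false

namespace Cfsg.Agent.H112.Row2.OrthSeven

open QuadraticMap Module Cfsg.Agent.LieClassical.OrthCore Cfsg.Agent.LieClassical.OrthTrans
  Cfsg.Agent.LieClassical.OrthSimple Cfsg.Agent.LieClassical.OrthFinite
open Cfsg.Agent.ClassicalGeometry.OrthAut1 (P center_scalar)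
open Cfsg.Agent.ClassicalGeometry.OrthSemi
open Cfsg.Agent.H459.Rad Cfsg.Agent.H112.Row2.OrthExt

variable {F V : Type*} [Field F] [AddCommGroup V] [Module F V] {Q : QuadraticForm F V}

/-- scalars act trivially -/
theorem Psi_eq_one {γ : Gam Q} {b : F} (h : ∀ v, γ.1 v = b • v) : Psi Q γ = 1 := by
  ext1 x
  obtain ⟨A, rfl⟩ := QuotientGroup.mk_surjective x
  rw [Psi_mk, MulAut.one_apply]
  congr 1
  apply Subtype.ext
  rw [coe_conjE]
  apply LinearEquiv.ext
  intro v
  obtain ⟨w, rfl⟩ := γ.1.surjective v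
  rw [conjLin_apply', h, h, map_smul]

/-- a linear similitude with scalar square -/
structure Sq (Q : QuadraticForm F V) (γ : Gam Q) (a : F) : Prop where
  nd : Nondeg Q
  two : (2 : F) ≠ 0
  ss : IsSS Q (RingEquiv.refl F) a γ.1
  sq : ∀ v, γ.1 (γ.1 v) = a • v

variable {γ : Gam Q} {a b : F}

theorem Sq.smul (h : Sq Q γ a) (s : F) (v : V) : γ.1 (s • v) = s • γ.1 v := h.ss.smul s v

theorem Sq.pol (h : Sq Q γ a) (u v : V) : polar Q (γ.1 u) (γ.1 v) = a * polar Q u v := h.ss.polar u v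

theorem Sq.pol_eigen (h : Sq Q γ a) (hb : b * b = a) {x : V} (hx : γ.1 x = b • x) (y : V) :
    polar Q x (γ.1 y) = b * polar Q x y := by
  have hb0 : b ≠ 0 := by
    rintro rfl
    rw [mul_zero] at hb
    exact h.ss.ne hb.symm
  have h1 := h.pol x y
  rw [hx, polar_smul_left, smul_eq_mul, ← hb, mul_assoc] at h1
  exact mul_left_cancel₀ hb0 h1

theorem Sq.perp (h : Sq Q γ a) (hb : b * b = a) {x y : V} (hx : γ.1 x = b • x) (hy : γ.1 y = (-b) • y) :
    polar Q x y = 0 := by
  have hb0 : b ≠ 0 := by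
    rintro rfl
    rw [mul_zero] at hb
    exact h.ss.ne hb.symm
  have h1 := h.pol_eigen hb hx y
  rw [hy, polar_smul_right, smul_eq_mul] at h1
  have h2 : (2 * b) * polar Q x y = 0 := by linear_combination -h1
  exact (mul_eq_zero.1 h2).resolve_left (mul_ne_zero h.two hb0)

theorem Sq.eigen (h : Sq Q γ a) (hb : b * b = a) (v : V) : γ.1 (b • v + γ.1 v) = b • (b • v + γ.1 v) := by
  rw [h.ss.add, h.smul, h.sq, smul_add, smul_smul, hb, add_comm]

/-- anisotropic eigenvectors -/
theorem Sq.exists_aniso (h : Sq Q γ a) (hb : b * b = a) (hv : ∃ v, γ.1 v ≠ (-b) • v) :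
    ∃ x, γ.1 x = b • x ∧ Q x ≠ 0 := by
  have hb0 : b ≠ 0 := by
    rintro rfl
    rw [mul_zero] at hb
    exact h.ss.ne hb.symm
  obtain ⟨v, hv⟩ := hv
  have hx0 : b • v + γ.1 v ≠ 0 := by
    intro h0
    apply hv
    rw [neg_smul]
    exact eq_neg_of_add_eq_zero_right h0
  obtain ⟨y, hy⟩ := h.nd.exists_polar_ne hx0
  by_contra hcon
  push Not at hcon
  have h1 : polar Q (b • v + γ.1 v) (b • y + γ.1 y) = 0 := by
    have e1 := hcon _ (h.eigen hb v)
    have e2 := hcon _ (h.eigen hb y)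
    have e3 := hcon (b • v + γ.1 v + (b • y + γ.1 y)) (by rw [h.ss.add, h.eigen hb, h.eigen hb, ← smul_add])
    rw [polar, e1, e2, e3]
    simp
  rw [polar_add_right, polar_smul_right, h.pol_eigen hb (h.eigen hb v), smul_eq_mul, ← two_mul] at h1
  exact mul_ne_zero h.two (mul_ne_zero hb0 hy) h1

/-- the orthogonal space of an anisotropic vector -/
def Uw (Q : QuadraticForm F V) (w : V) : Submodule F V := LinearMap.ker (polarBilin Q w)

theorem mem_Uw {w x : V} : x ∈ Uw Q w ↔ polar Q w x = 0 := by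
  simp only [Uw, LinearMap.mem_ker, polarBilin_apply_apply]

theorem isCompl_Uw (h2 : (2 : F) ≠ 0) {w : V} (hw : Q w ≠ 0) : IsCompl (Uw Q w) (Submodule.span F {w}) := by
  have hww : polar Q w w ≠ 0 := by
    rw [polar_self']
    exact mul_ne_zero h2 hw
  constructor
  · rw [Submodule.disjoint_def]
    intro x hx hx'
    obtain ⟨s, rfl⟩ := Submodule.mem_span_singleton.1 hx'
    rw [mem_Uw, polar_smul_right, smul_eq_mul] at hx
    rw [(mul_eq_zero.1 hx).resolve_right hww, zero_smul]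
  · rw [codisjoint_iff, eq_top_iff]
    intro x _
    have h3 : x - ((polar Q w w)⁻¹ * polar Q w x) • w ∈ Uw Q w := by
      rw [mem_Uw, polar_sub_right, polar_smul_right, smul_eq_mul]
      field_simp
      ring
    have h4 : x = (x - ((polar Q w w)⁻¹ * polar Q w x) • w) + ((polar Q w w)⁻¹ * polar Q w x) • w := by abel
    rw [h4]
    exact Submodule.add_mem_sup h3 (Submodule.smul_mem _ _ (Submodule.mem_span_singleton_self w))

theorem orth_Uw {w : V} : ∀ u ∈ Uw Q w, ∀ x ∈ Submodule.span F {w}, polar Q u x = 0 := by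
  intro u hu x hx
  obtain ⟨s, rfl⟩ := Submodule.mem_span_singleton.1 hx
  rw [mem_Uw] at hu
  rw [polar_smul_right, polar_comm, hu, smul_zero]

theorem nondeg_Uw (h2 : (2 : F) ≠ 0) (hQ : Nondeg Q) {w : V} (hw : Q w ≠ 0) : Nondeg (QU Q (Uw Q w)) := by
  intro x hx
  apply Subtype.ext
  apply hQ
  intro y
  obtain ⟨u, z, rfl⟩ := exists_dec (isCompl_Uw h2 hw) y
  have h1 := hx u
  rw [polar_QU] at h1
  rw [polar_add_right, h1, orth_Uw _ x.2 _ z.2, add_zero]

/-- **the geometric core** -/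
theorem Sq.false [Finite F] [FiniteDimensional F V] (h : Sq Q γ a) (hb : b * b = a) (hd : 6 ≤ finrank F V)
    (hns : ∀ s : F, ¬ ∀ v, γ.1 v = s • v) (hR : RC (Psi Q γ)) : False := by
  have hb0 : b ≠ 0 := by
    rintro rfl
    rw [mul_zero] at hb
    exact h.ss.ne hb.symm
  have hG : Good Q := good_of_finite h.nd (by omega)
  have hfV : Finite V := Module.finite_of_finite F
  have hfG : Finite (V ≃ₗ[F] V) := Finite.of_injective (fun g : V ≃ₗ[F] V => (g : V → V)) DFunLike.coe_injective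
  have hfP : Finite (P Q) := Quotient.finite _
  -- the key step
  have key : ∀ (w e f : V) (ε : F), Q w ≠ 0 → γ.1 w = ε • w → e ≠ 0 → f ≠ 0 → γ.1 e = b • e → γ.1 f = (-b) • f →
      polar Q w e = 0 → polar Q w f = 0 → False := by
    intro w e f ε hw hγw he hf hγe hγf hwe hwf
    have hw0 : w ≠ 0 := by
      rintro rfl
      exact hw (QuadraticMap.map_zero Q)
    have hε : ε ≠ 0 := by
      rintro rfl
      rw [zero_smul] at hγw
      have h3 := h.sq w
      rw [hγw, h.ss.map_zero] at h3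
      rcases smul_eq_zero.1 h3.symm with h4 | h4
      · exact h.ss.ne h4
      · exact hw0 h4
    have hc := isCompl_Uw (Q := Q) h.two hw
    have hfr : finrank F (Uw Q w) + 1 = finrank F V := by
      rw [← Submodule.finrank_add_eq_of_isCompl hc, finrank_span_singleton hw0]
    have hGU : Good (QU Q (Uw Q w)) := good_of_finite (nondeg_Uw h.two h.nd hw) (by omega)
    have hU : ∀ x, γ.1 x ∈ Uw Q w ↔ x ∈ Uw Q w := by
      intro x
      rw [mem_Uw, mem_Uw]
      have h3 := h.pol w x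
      rw [hγw, polar_smul_left, smul_eq_mul] at h3
      constructor
      · intro h4
        rw [h4, mul_zero] at h3
        exact (mul_eq_zero.1 h3.symm).resolve_left h.ss.ne
      · intro h4
        rw [h4, mul_zero] at h3
        exact (mul_eq_zero.1 h3).resolve_left hε
    have hW : ∀ x, γ.1 x ∈ Submodule.span F {w} ↔ x ∈ Submodule.span F {w} := by
      intro x
      constructor
      · intro h3
        obtain ⟨s, hs⟩ := Submodule.mem_span_singleton.1 h3
        have h4 := h.sq x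
        rw [← hs, h.smul, hγw, smul_smul] at h4
        have h5 : x = (a⁻¹ * (s * ε)) • w := by
          rw [mul_smul, h4, smul_smul, inv_mul_cancel₀ h.ss.ne, one_smul]
        rw [h5]
        exact Submodule.smul_mem _ _ (Submodule.mem_span_singleton_self w)
      · intro h3
        obtain ⟨s, rfl⟩ := Submodule.mem_span_singleton.1 h3
        rw [h.smul, hγw]
        exact Submodule.smul_mem _ _ (Submodule.smul_mem _ _ (Submodule.mem_span_singleton_self w))
    obtain ⟨s, hs⟩ := scal_on hG hc orth_Uw hGU (by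
      rw [Ne, Submodule.span_singleton_eq_bot]
      exact hw0) γ hU hW hR
    have h3 := hs e (mem_Uw.2 hwe)
    have h4 := hs f (mem_Uw.2 hwf)
    rw [hγe] at h3
    rw [hγf] at h4
    have h5 : b = s := by
      have h6 : (b - s) • e = 0 := by rw [sub_smul, h3, sub_self]
      exact sub_eq_zero.1 ((smul_eq_zero.1 h6).resolve_right he)
    have h6 : -b = s := by
      have h7 : (-b - s) • f = 0 := by rw [sub_smul, h4, sub_self]
      exact sub_eq_zero.1 ((smul_eq_zero.1 h7).resolve_right hf)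
    have h7 : 2 * b = 0 := by
      rw [two_mul]
      nth_rewrite 1 [h5]
      rw [← h6, neg_add_cancel]
    exact mul_ne_zero h.two hb0 h7
  obtain ⟨x₁, hx₁, hx₁'⟩ := h.exists_aniso hb (not_forall.1 (hns (-b)))
  have hb' : (-b) * (-b) = a := by rw [neg_mul_neg, hb]
  obtain ⟨x₂, hx₂, hx₂'⟩ := h.exists_aniso hb' (by
    rw [neg_neg]
    exact not_forall.1 (hns b))
  have h12 := h.perp hb hx₁ hx₂
  have h21 : polar Q x₂ x₁ = 0 := by rw [polar_comm]; exact h12
  have hne : ∀ x : V, Q x ≠ 0 → x ≠ 0 := by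
    rintro x hx rfl
    exact hx (QuadraticMap.map_zero Q)
  obtain ⟨v, hv0, hv⟩ := exists_perp_ne (Q := Q) ![x₁, x₂] (by omega)
  have hv1 : polar Q x₁ v = 0 := hv 0
  have hv2 : polar Q x₂ v = 0 := hv 1
  by_cases hp : b • v + γ.1 v = 0
  · have hq := h.eigen hb' v
    have hq0 : (-b) • v + γ.1 v ≠ 0 := by
      intro h0
      have h3 : (2 * b) • v = (b • v + γ.1 v) - ((-b) • v + γ.1 v) := by
        rw [neg_smul, two_mul, add_smul]
        abel
      rw [hp, h0, sub_zero] at h3
      rcases smul_eq_zero.1 h3 with h4 | h4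
      · exact mul_ne_zero h.two hb0 h4
      · exact hv0 h4
    refine key x₂ x₁ _ (-b) hx₂' hx₂ (hne _ hx₁') hq0 hx₁ hq h21 ?_
    rw [polar_add_right, polar_smul_right, h.pol_eigen hb' hx₂, hv2]
    simp
  · refine key x₁ _ x₂ b hx₁' hx₁ hp (hne _ hx₂') (h.eigen hb v) hx₂ ?_ h12
    rw [polar_add_right, polar_smul_right, h.pol_eigen hb hx₁, hv1]
    simp

/-- **odd dimension: linear similitudes of order two are not radical** -/
theorem false_of_odd [Finite F] [FiniteDimensional F V] (h2 : (2 : F) ≠ 0) (hQ : Nondeg Q)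
    (hodd : Odd (finrank F V)) (hd : 6 ≤ finrank F V) (γ : Gam Q) {c : F} (hγ : IsSS Q (RingEquiv.refl F) c γ.1)
    (hx : orderOf (Psi Q γ) = 2) (hR : RC (Psi Q γ)) : False := by
  have hG : Good Q := good_of_finite hQ (by omega)
  have hns : ∀ s : F, ¬ ∀ v, γ.1 v = s • v := by
    intro s hs
    rw [Psi_eq_one hs, orderOf_one] at hx
    omega
  have hsq : Psi Q (γ ^ 2) = 1 := by rw [map_pow, ← hx, pow_orderOf_eq_one]
  obtain ⟨a, ha0, ha⟩ := exists_scalar_of_conjE hG (γ ^ 2) (eq_one_of_quotAut (commutator_E hG) _ hsq)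
  have ha' : ∀ v, γ.1 (γ.1 v) = a • v := by
    intro v
    rw [← ha v]
    show _ = (γ.1 ^ 2) v
    rw [pow_two, Equiv.Perm.mul_apply]
  -- `a` is a square
  obtain ⟨k, hk⟩ := hodd
  let L : V →ₗ[F] V := { toFun := γ.1, map_add' := hγ.add, map_smul' := hγ.smul }
  have hL : ∀ v, L v = γ.1 v := fun _ => rfl
  have hLL : L * L = a • (1 : V →ₗ[F] V) := by
    apply LinearMap.ext
    intro v
    exact ha' v
  have hdet : LinearMap.det L * LinearMap.det L = a ^ (2 * k + 1) := by
    rw [← map_mul, hLL, LinearMap.det_smul, map_one, mul_one, hk]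
  obtain ⟨b, hb⟩ : ∃ b : F, b * b = a := by
    refine ⟨LinearMap.det L / a ^ k, ?_⟩
    rw [div_mul_div_comm, hdet, ← pow_add, ← two_mul, pow_succ, mul_div_assoc, mul_comm, div_mul_cancel₀]
    exact pow_ne_zero _ ha0
  -- `c = a`
  have hca : c = a := by
    have hV : ∃ v : V, v ≠ 0 := by
      by_contra hcon
      push Not at hcon
      have : Subsingleton V := ⟨fun x y => by rw [hcon x, hcon y]⟩
      rw [finrank_zero_of_subsingleton] at hd
      omega
    obtain ⟨v, hv⟩ := hV
    obtain ⟨w, hw⟩ := hQ.exists_polar_ne hv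
    have hp : ∀ u v, polar Q (γ.1 u) (γ.1 v) = c * polar Q u v := fun u v => hγ.polar u v
    have h1 : c * c = a * a := by
      have h3 := hp (γ.1 v) (γ.1 w)
      rw [ha', ha', hp, polar_smul_left, polar_smul_right, smul_eq_mul, smul_eq_mul, ← mul_assoc, ← mul_assoc] at h3
      exact (mul_right_cancel₀ hw h3).symm
    rcases mul_self_eq_mul_self_iff.1 h1 with h3 | h3
    · exact h3
    · exfalso
      -- an alternating non-degenerate form
      let B : LinearMap.BilinForm F V := (polarBilin Q).compl₂ L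
      have hB : ∀ u v, B u v = polar Q u (γ.1 v) := fun _ _ => rfl
      have halt : B.IsAlt := by
        intro u
        rw [hB]
        have h4 := hp u (γ.1 u)
        rw [ha', polar_smul_right, smul_eq_mul, polar_comm, h3] at h4
        have h5 : (2 * a) * polar Q u (γ.1 u) = 0 := by linear_combination h4
        exact (mul_eq_zero.1 h5).resolve_left (mul_ne_zero h2 ha0)
      have hnd : Cfsg.Agent.H952.Alt.Nd B ⊤ := by
        intro u _ hu
        obtain ⟨y, hy⟩ := hQ.exists_polar_ne hu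
        refine ⟨γ.1⁻¹ y, Submodule.mem_top, ?_⟩
        rw [hB, apply_inv]
        exact hy
      have h4 := Cfsg.Agent.H952.SympSemi.even_finrank halt _ ⊤ rfl hnd
      rw [finrank_top, hk] at h4
      exact (Nat.not_even_iff_odd.2 ⟨k, rfl⟩) h4
  rw [hca] at hγ
  exact Sq.false (b := b) ⟨hQ, h2, hγ, ha'⟩ hb hd hns hR

/-- every automorphism of `E Q / Z(E Q)` is induced by a semisimilitude -/
theorem exists_Psi [Finite F] [FiniteDimensional F V] (hG : Good Q) (h7 : 7 ≤ finrank F V) (h8 : finrank F V ≠ 8)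
    (α : MulAut (P Q)) : ∃ γ : Gam Q, Psi Q γ = α := by
  obtain ⟨M, σ, c, hM, h⟩ := Cfsg.Agent.ClassicalGeometry.OrthAut4.exists_semi_P hG h7 α
    (Cfsg.Agent.AutOrth.Main.pt_of_no_four hG h7 (fun h => absurd h h8) α)
  have hSS : IsSS Q σ c M.toEquiv := ⟨hM.ne, fun u v => map_add M u v, hM.smul, hM.form⟩
  refine ⟨⟨M.toEquiv, σ, c, hSS⟩, ?_⟩
  ext1 x
  obtain ⟨A, rfl⟩ := QuotientGroup.mk_surjective x
  rw [Psi_mk, h]
  refine congrArg _ (Subtype.ext ?_)
  rw [coe_conjE]
  apply LinearEquiv.ext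
  intro v
  obtain ⟨w, rfl⟩ := M.surjective v
  rw [Cfsg.Agent.AutOrth.SemiSim.conjE_apply]
  exact conjLin_apply' (⟨M.toEquiv, σ, c, hSS⟩ : Gam Q) A.1 w

/-- **the row `Ω₇(3)`** (task 1774) -/
theorem row2_o73 {K : Type*} [Group K] [Finite K] [IsSimpleGroup K] {F : Type} [Field F] [Fintype F]
    (hF : Fintype.card F = 3) (e : Nonempty (K ≃* Cfsg.POmega F (Cfsg.quadFormOdd 3 F))) :
    Cfsg.Agent.H483.Rad23.Row23 2 K := by
  obtain ⟨e⟩ := e
  have h2 : (2 : F) ≠ 0 := by
    intro h0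
    have h3 := FiniteField.cast_card_eq_zero F
    rw [hF] at h3
    have h4 : (3 : F) = 0 := by exact_mod_cast h3
    have h5 : (1 : F) = 3 - 2 := by norm_num
    rw [h4, h0, sub_zero] at h5
    exact one_ne_zero h5
  have hG : Good (Cfsg.Agent.LieClassical.QuadForms.oddForm 3 F) := Cfsg.Agent.AutOrth.Main.good_odd (by norm_num) h2
  rw [← Cfsg.Agent.LieClassical.QuadForms.coe_oddForm] at e
  let e' := e.trans (Cfsg.Agent.AutOrth.Main.pe hG)
  have hfin : Finite (P (Cfsg.Agent.LieClassical.QuadForms.oddForm 3 F)) := Finite.of_equiv K e'.toEquiv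
  refine Cfsg.Agent.H483.Rad23.Row23.congr e' ?_
  refine Cfsg.Agent.H483.Rad23.NoRC.row fun x hx hR => ?_
  have hV : finrank F (Unit ⊕ (Fin 3 ⊕ Fin 3) → F) = 7 := by
    rw [Module.finrank_fintype_fun_eq_card]
    simp
  obtain ⟨γ, rfl⟩ := exists_Psi hG (by rw [hV]) (by rw [hV]; norm_num) x
  obtain ⟨σ, c, hγ⟩ := γ.2
  rw [Cfsg.Agent.H112.Row2.SpSix.ringEquiv_eq_refl (by rw [hF]; norm_num) σ] at hγ
  exact false_of_odd h2 hG.nondeg (by rw [hV]; decide) (by rw [hV]; norm_num) γ hγ hx hR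

end Cfsg.Agent.H112.Row2.OrthSeven
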