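import Cfsg.Agent.H483.Rad23.Base
import Cfsg.Agent.H952.NdCount
import Cfsg.Agent.ClassicalGeometry.SympAutExists
import Cfsg.Agent.ClassicalGeometry.SympAutOddA
import Cfsg.Agent.ClassicalGeometry.SympGamma
import Cfsg.Agent.S0269
import Cfsg.Agent.S0270
import Cfsg.Agent.S1260

/-!
# Similitudes of a symplectic space which are radical (helper112, for S3832, S4336)

`scal_on` : if `x = Psi g` is a radical automorphism of `PSp_2m(F)`, `char F ≠ 2`, and `g` normalises the
non-degenerate subspace `W ≠ 0`, then `g` is scalar on vectors orthogonal to `W`.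
-/

set_option autoImplicit false
set_option linter.unusedSectionVars false

namespace Cfsg.Agent.H112.Row2.SpExt

open Module Submodule Cfsg
open Cfsg.Agent.H952.Alt Cfsg.Agent.H952.Semi Cfsg.Agent.H952.SympSemi
open Cfsg.Agent.H952.SympTrans Cfsg.Agent.H952.NdSub
open Cfsg.Agent.ClassicalGeometry.SympBasic Cfsg.Agent.ClassicalGeometry.SympIso
open Cfsg.Agent.ClassicalGeometry.SympAutSemi Cfsg.Agent.ClassicalGeometry.SympGamma
open Cfsg.Agent.H459.Rad

variable {F : Type*} [Field F]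

/-- the symplectic group of `Wᗮ` is the pointwise stabiliser of `W` -/
theorem exists_ext {d l : ℕ} {W : Submodule F (Fin d ⊕ Fin d → F)}
    (hW : Nd (sympBilin d F) W) (hl : finrank F W + 2 * l = 2 * d) :
    ∃ f : ↥(Matrix.symplecticGroup (Fin l) F) →* ↥(Matrix.symplecticGroup (Fin d) F),
      Function.Injective f ∧ (∀ h, ∀ w ∈ W, rho d F (f h) w = w) ∧
        ∀ y, (∀ w ∈ W, rho d F y w = w) → ∃ h, f h = y := by
  have hA : (sympBilin d F).IsAlt := sympBilin_isAlt
  have hWo := nd_orth hA nd_top hW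
  have hfr := finrank_orth hA hW
  have hd : finrank F (Fin d ⊕ Fin d → F) = 2 * d := by
    rw [Module.finrank_fintype_fun_eq_card]
    simp; omega
  obtain ⟨e, he⟩ := exists_linearEquiv_sympForm (k := l)
    (LinearMap.BilinForm.restrict (sympBilin d F)
      (LinearMap.BilinForm.orthogonal (sympBilin d F) W))
    (fun v => hA (v : Fin d ⊕ Fin d → F)) (nd_restrict hWo) (by omega)
  have he2 : ∀ u v, sympBilin d F (e u : Fin d ⊕ Fin d → F) (e v : Fin d ⊕ Fin d → F) =
      sympForm l F u v := he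
  have hex : ∀ h : ↥(Matrix.symplecticGroup (Fin l) F),
      ∃ y : ↥(Matrix.symplecticGroup (Fin d) F),
        (∀ w : W, Matrix.toLin' (y : Matrix (Fin d ⊕ Fin d) (Fin d ⊕ Fin d) F) w = w) ∧
        ∀ z : LinearMap.BilinForm.orthogonal (sympBilin d F) W,
          Matrix.toLin' (y : Matrix (Fin d ⊕ Fin d) (Fin d ⊕ Fin d) F) z =
            e (Matrix.toLin' (h : Matrix (Fin l ⊕ Fin l) (Fin l ⊕ Fin l) F) (e.symm z)) := by
    intro h
    obtain ⟨T, hT, hTl, hTr⟩ := glue hA (W' := W) hW W.subtype (fun w => w.2) (fun _ _ => rfl)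
      ((LinearMap.BilinForm.orthogonal (sympBilin d F) W).subtype.comp ((e : _ →ₗ[F] _).comp
        ((Matrix.toLin' (h : Matrix (Fin l ⊕ Fin l) (Fin l ⊕ Fin l) F)).comp
          (e.symm : _ →ₗ[F] _)))) (fun z => (e _).2) (by
        intro u v
        have h1 := toLin_isometry h (e.symm u) (e.symm v)
        have h2 := he2 (e.symm u) (e.symm v)
        rw [e.apply_symm_apply, e.apply_symm_apply] at h2
        rw [h2]
        exact (he2 _ _).trans h1)
    obtain ⟨y, hy⟩ := exists_symplectic T hT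
    refine ⟨y, fun w => ?_, fun z => ?_⟩
    · rw [hy]
      exact hTl w
    · rw [hy]
      exact hTr z
  choose f hf1 hf2 using hex
  have huniq : ∀ y y' : ↥(Matrix.symplecticGroup (Fin d) F),
      (∀ w : W, Matrix.toLin' (y : Matrix (Fin d ⊕ Fin d) (Fin d ⊕ Fin d) F) w =
        Matrix.toLin' (y' : Matrix (Fin d ⊕ Fin d) (Fin d ⊕ Fin d) F) w) →
      (∀ z : LinearMap.BilinForm.orthogonal (sympBilin d F) W,
        Matrix.toLin' (y : Matrix (Fin d ⊕ Fin d) (Fin d ⊕ Fin d) F) z =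
        Matrix.toLin' (y' : Matrix (Fin d ⊕ Fin d) (Fin d ⊕ Fin d) F) z) → y = y' := by
    intro y y' h1 h2
    apply Subtype.ext
    apply (Matrix.toLin' (R := F)).injective
    apply LinearMap.ext
    intro v
    have : v ∈ W ⊔ LinearMap.BilinForm.orthogonal (sympBilin d F) W := by
      rw [(hW.isCompl hA).sup_eq_top]; exact Submodule.mem_top
    obtain ⟨a, ha, b, hb, rfl⟩ := Submodule.mem_sup.1 this
    rw [map_add, map_add]
    exact congrArg₂ _ (h1 ⟨a, ha⟩) (h2 ⟨b, hb⟩)
  refine ⟨MonoidHom.mk' f ?_, ?_, ?_, ?_⟩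
  · intro g h
    apply huniq
    · intro w
      rw [hf1, Submonoid.coe_mul, Matrix.toLin'_mul, LinearMap.comp_apply, hf1, hf1]
    · intro z
      rw [hf2, Submonoid.coe_mul, Submonoid.coe_mul, Matrix.toLin'_mul, Matrix.toLin'_mul,
        LinearMap.comp_apply, LinearMap.comp_apply, hf2, hf2, e.symm_apply_apply]
  · intro g h hgh
    have hgh' : f g = f h := hgh
    apply Subtype.ext
    apply (Matrix.toLin' (R := F)).injective
    apply LinearMap.ext
    intro v
    have h1 := hf2 g (e v)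
    rw [hgh', hf2, e.symm_apply_apply] at h1
    exact (e.injective (Subtype.ext h1)).symm
  · intro g w hw
    exact hf1 g ⟨w, hw⟩
  · intro y hy
    have hy' : ∀ w ∈ W, Matrix.toLin' (y : Matrix (Fin d ⊕ Fin d) (Fin d ⊕ Fin d) F) w = w := hy
    have hmem : ∀ z : LinearMap.BilinForm.orthogonal (sympBilin d F) W,
        Matrix.toLin' (y : Matrix (Fin d ⊕ Fin d) (Fin d ⊕ Fin d) F) z ∈
          LinearMap.BilinForm.orthogonal (sympBilin d F) W := by
      intro z
      rw [mem_orth hA]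
      intro w hw
      have h1 := toLin_isometry y z w
      rw [hy' w hw] at h1
      rw [h1]
      exact (mem_orth hA).1 z.2 w hw
    let T : Module.End F (Fin l ⊕ Fin l → F) :=
      (e.symm : _ →ₗ[F] _).comp (LinearMap.codRestrict _ ((Matrix.toLin' (y : Matrix (Fin d ⊕ Fin d) (Fin d ⊕ Fin d) F)).comp
        ((LinearMap.BilinForm.orthogonal (sympBilin d F) W).subtype.comp (e : _ →ₗ[F] _))) (fun v => hmem (e v)))
    have hT : ∀ v, (e (T v) : Fin d ⊕ Fin d → F) =
        Matrix.toLin' (y : Matrix (Fin d ⊕ Fin d) (Fin d ⊕ Fin d) F) (e v) := by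
      intro v
      show ((e (e.symm _) : LinearMap.BilinForm.orthogonal (sympBilin d F) W) : Fin d ⊕ Fin d → F) = _
      rw [e.apply_symm_apply]
      rfl
    obtain ⟨h, hh⟩ := exists_symplectic T (by
      intro u v
      rw [sympBilin_apply, sympBilin_apply, ← he2, ← he2, hT, hT]
      exact toLin_isometry y _ _)
    refine ⟨h, huniq _ _ ?_ ?_⟩
    · intro w
      rw [hy' w w.2]
      exact hf1 h w
    · intro z
      refine (hf2 h z).trans ?_
      rw [hh, hT, e.apply_symm_apply]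

/-- `Sp_2l(F)` is quasisimple -/
theorem quasisimple_sp [Finite F] (h2 : (2 : F) ≠ 0) {l : ℕ} (hl : 2 ≤ l) :
    IsQuasisimple ↥(Matrix.symplecticGroup (Fin l) F) := by
  have := Fintype.ofFinite F
  have h3 : 3 ≤ Fintype.card F := by
    have h1 := Fintype.one_lt_card (α := F)
    by_contra hlt
    have h4 : Fintype.card F = 2 := by omega
    have h5 := FiniteField.cast_card_eq_zero F
    rw [h4] at h5
    exact h2 (by exact_mod_cast h5)
  refine ⟨⟨S0269.result l ?_⟩, S0270.result l hl (fun _ => h3)⟩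
  rcases Nat.lt_or_ge 2 l with h | h
  · exact Or.inl h
  · exact Or.inr (Or.inl ⟨by omega, h3⟩)

theorem eq_one_of_center {m : ℕ} {A : Matrix.symplecticGroup (Fin m) F}
    (hA : A ∈ Subgroup.center (Matrix.symplecticGroup (Fin m) F)) {w : Fin m ⊕ Fin m → F} (hw : w ≠ 0)
    (h : rho m F A w = w) : A = 1 := by
  obtain ⟨a, ha⟩ := (LieClassical.SympCenter.mem_center_iff m A).1 hA
  have h1 : a • w = w := by
    rw [rho_apply] at h
    rw [← h]
    conv_rhs => rw [ha, Matrix.smul_mulVec, Matrix.one_mulVec]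
    rw [h]
  have h2 : (a - 1) • w = 0 := by rw [sub_smul, h1, one_smul, sub_self]
  have h3 : a = 1 := sub_eq_zero.1 ((smul_eq_zero.1 h2).resolve_right hw)
  apply Subtype.ext
  rw [ha, h3, one_smul]
  rfl

/-- **a radical similitude normalising `W` is scalar on `Wᗮ`** -/
theorem scal_on [Finite F] (h2 : (2 : F) ≠ 0) {m l : ℕ} (hl : 2 ≤ l) {W : Submodule F (Fin m ⊕ Fin m → F)}
    (hW : Nd (sympBilin m F) W) (hd : finrank F W + 2 * l = 2 * m) (hW0 : W ≠ ⊥) (g : semiSim m F)
    {φ : F ≃+* F} {c : F} (hc : c ≠ 0) (hg : IsSemi g.1 φ c) (hgW : ∀ w ∈ W, g.1 w ∈ W)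
    (hR : RC (Psi m F g)) {u : Fin m ⊕ Fin m → F} (hu : ∀ w ∈ W, sympForm m F w u = 0) :
    ∃ a : F, g.1 u = a • u := by
  obtain ⟨f, hf, hf1, hf2⟩ := exists_ext hW hd
  obtain ⟨w0, hw0, hw00⟩ := (Submodule.ne_bot_iff _).1 hW0
  set π : Matrix.symplecticGroup (Fin m) F →* PSp m F := QuotientGroup.mk' _ with hπ
  -- elements fixing `W` are determined by their images
  have hker : ∀ A B : Matrix.symplecticGroup (Fin m) F, (rho m F A w0 = w0) → rho m F B w0 = w0 → π A = π B →
      A = B := by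
    intro A B hA hB hAB
    have h1 : A⁻¹ * B ∈ Subgroup.center (Matrix.symplecticGroup (Fin m) F) := QuotientGroup.eq.1 hAB
    have h3 : rho m F (A⁻¹ * B) w0 = w0 := by
      rw [map_mul, Equiv.Perm.mul_apply, hB, map_inv]
      exact (Equiv.symm_apply_eq _).2 hA.symm
    exact inv_mul_eq_one.1 (eq_one_of_center h1 hw00 h3)
  have hinj : Function.Injective (π.comp f) := fun a b hab =>
    hf (hker _ _ (hf1 a w0 hw0) (hf1 b w0 hw0) hab)
  have hmem : ∀ A, (∀ w ∈ W, rho m F A w = w) → π A ∈ (π.comp f).range := by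
    intro A hA
    obtain ⟨h, rfl⟩ := hf2 A hA
    exact ⟨h, rfl⟩
  have hfinV : Finite (Fin m ⊕ Fin m → F) := inferInstance
  have hinvW : ∀ w ∈ W, g.1⁻¹ w ∈ W := by
    obtain ⟨n, hn, hn1⟩ := isOfFinOrder_iff_pow_eq_one.1 (isOfFinOrder_of_finite g.1)
    obtain ⟨k, rfl⟩ : ∃ k, n = k + 1 := ⟨n - 1, by omega⟩
    have h3 : g.1⁻¹ = g.1 ^ k := by
      rw [inv_eq_iff_mul_eq_one, ← pow_succ', hn1]
    have h4 : ∀ k : ℕ, ∀ w ∈ W, (g.1 ^ k) w ∈ W := by
      intro k
      induction k with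
      | zero => exact fun w hw => hw
      | succ k ih =>
        intro w hw
        rw [pow_succ, Equiv.Perm.mul_apply]
        exact ih _ (hgW w hw)
    rw [h3]
    exact h4 k
  have hx : ∀ k ∈ (π.comp f).range, Psi m F g k ∈ (π.comp f).range := by
    rintro _ ⟨h, rfl⟩
    have h3 : Psi m F g ((π.comp f) h) = π (conjHom m F g (f h)) := rfl
    rw [h3]
    apply hmem
    intro w hw
    rw [rho_conjHom, Equiv.Perm.mul_apply, Equiv.Perm.mul_apply, hf1 h _ (hinvW w hw)]
    exact perm_apply_inv_self g.1 w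
  have htop : (π.comp f).range ≠ ⊤ := by
    intro htop
    have h3 : π (transv w0 1) ∈ (π.comp f).range := by rw [htop]; exact Subgroup.mem_top _
    obtain ⟨h, hh⟩ := h3
    have h4 : f h = transv w0 1 := hker _ _ (hf1 h w0 hw0) (by
      rw [rho_transv, sympForm_self, mul_zero, zero_smul, add_zero]) hh
    obtain ⟨w1, hw1, hne⟩ := hW w0 hw0 hw00
    have h5 := hf1 h w1 hw1
    rw [h4, rho_transv, add_eq_left, one_mul] at h5
    rcases smul_eq_zero.1 h5 with h6 | h6
    · rw [sympForm_swap, neg_eq_zero] at h6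
      exact hne h6
    · exact hw00 h6
  have hq : IsQuasisimple ↥(π.comp f).range :=
    S1260.isQuasisimple_of_mulEquiv (MonoidHom.ofInjective hinj) (quasisimple_sp h2 hl)
  by_cases hu0 : u = 0
  · refine ⟨0, ?_⟩
    have h3 := hg.2.1 0 u
    rw [map_zero φ, zero_smul, zero_smul] at h3
    rw [hu0, smul_zero]
    exact h3
  have htW : ∀ v, (∀ w ∈ W, sympForm m F w v = 0) → ∀ c : F, ∀ w ∈ W, rho m F (transv v c) w = w := by
    intro v hv c w hw
    rw [rho_transv, hv w hw, mul_zero, zero_smul, add_zero]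
  have hgu : ∀ w ∈ W, sympForm m F w (g.1 u) = 0 := by
    intro w hw
    have h3 := hg.2.2 (g.1⁻¹ w) u
    rw [perm_apply_inv_self, hu _ (hinvW w hw), map_zero, mul_zero] at h3
    exact h3
  have h3 : Psi m F g (π (transv u 1)) = π (transv u 1) :=
    hR.eq_of_quasisimple htop hx hq (hmem _ (htW u hu 1))
  have h4 : Psi m F g (π (transv u 1)) = π (conjHom m F g (transv u 1)) := rfl
  rw [h4, conjHom_transv g hc hg] at h3
  have h5 := hker _ _ (htW _ hgu _ w0 hw0) (htW u hu 1 w0 hw0) h3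
  obtain ⟨x, hx'⟩ : ∃ x, sympForm m F x u ≠ 0 := by
    by_contra hcon
    push Not at hcon
    exact hu0 (eq_zero_of_forall_sympForm_left hcon)
  have h6 : rho m F (transv (g.1 u) (φ 1 * c⁻¹)) x = rho m F (transv u 1) x := by rw [h5]
  rw [rho_transv, rho_transv, add_right_inj, one_mul] at h6
  set b := φ 1 * c⁻¹ * sympForm m F x (g.1 u) with hb
  have hb0 : b ≠ 0 := by
    intro h0
    rw [h0, zero_smul] at h6
    rcases smul_eq_zero.1 h6.symm with h7 | h7
    · exact hx' h7
    · exact hu0 h7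
  refine ⟨b⁻¹ * sympForm m F x u, ?_⟩
  rw [mul_smul, ← h6, smul_smul, inv_mul_cancel₀ hb0, one_smul]

end Cfsg.Agent.H112.Row2.SpExt
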